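import Groth.Agent.QFin.K585.Basic
import Mathlib.AlgebraicGeometry.Morphisms.ClosedImmersion
import Mathlib.RingTheory.Algebraic.Integral
import Mathlib.RingTheory.Jacobson.Ring

/-!
# Finite type points
-/

set_option autoImplicit false

universe u

open CategoryTheory CategoryTheory.Limits AlgebraicGeometry

namespace K585.FtPtsBasic

theorem isIntegral_of_adjoin {R R' K : Type*} [CommRing R] [CommRing R'] [CommRing K] [Algebra R K]
    [Algebra R R'] [Algebra R' K] [IsScalarTower R R' K] (s : Set K)
    (hs : Algebra.adjoin R s = ⊤) (h : ∀ z ∈ s, _root_.IsIntegral R' z) : Algebra.IsIntegral R' K := by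
  have h10 : (⊤ : Subalgebra R' K) ≤ integralClosure R' K := by
    have h11 : Algebra.adjoin R' s = ⊤ := by
      rw [eq_top_iff]
      intro x _
      have hx : x ∈ Algebra.adjoin R s := by rw [hs]; trivial
      have h13 : ∀ z ∈ s, z ∈ (Algebra.adjoin R' s).restrictScalars R := fun z hz => by
        rw [Subalgebra.mem_restrictScalars]
        exact Algebra.subset_adjoin (R := R') hz
      have h12 : Algebra.adjoin R s ≤ (Algebra.adjoin R' s).restrictScalars R :=
        Algebra.adjoin_le h13
      have h14 := h12 hx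
      rwa [Subalgebra.mem_restrictScalars] at h14
    rw [← h11]
    exact Algebra.adjoin_le (fun z hz => h z hz)
  exact ⟨fun x => h10 trivial⟩

/-- A field of finite type over a ring `R` is finite over a suitable localization `R_r`. -/
theorem exists_away_finite (R K : Type*) [CommRing R] [Field K] [Algebra R K]
    [hft : Algebra.FiniteType R K] :
    ∃ r : R, algebraMap R K r ≠ 0 ∧ ∀ (R' : Type _) [CommRing R'] [Algebra R R'] [Algebra R' K]
      [IsScalarTower R R' K] [IsLocalization.Away r R'], Module.Finite R' K := by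
  let D := (algebraMap R K).range
  have hD : Function.Injective (algebraMap D K) := Subtype.val_injective
  have : FaithfulSMul D K := (faithfulSMul_iff_algebraMap_injective D K).mpr hD
  let F := FractionRing D
  let : Algebra F K := FractionRing.liftAlgebra D K
  have : IsScalarTower D F K := FractionRing.isScalarTower_liftAlgebra D K
  let : Algebra R D := (algebraMap R K).rangeRestrict.toAlgebra
  have : IsScalarTower R D K := .of_algebraMap_eq (fun _ => rfl)
  have h1 : Algebra.FiniteType D K := .of_restrictScalars_finiteType R D K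
  have h2 : Algebra.FiniteType F K := .of_restrictScalars_finiteType D F K
  have h3 : Module.Finite F K := finite_of_finite_type_of_isJacobsonRing F K
  have h4 : Algebra.IsAlgebraic D K :=
    (IsFractionRing.comap_isAlgebraic_iff (A := D) (K := F) (C := K)).mpr inferInstance
  obtain ⟨s, hs⟩ := hft.out
  obtain ⟨y, hy0, hy⟩ := Algebra.IsAlgebraic.exists_integral_multiples (R := D) s
  obtain ⟨r, hr⟩ : ∃ r : R, algebraMap R K r = y := y.2
  have hRD : Algebra.IsIntegral R D := Algebra.isIntegral_of_surjective
    (algebraMap R K).rangeRestrict_surjective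
  have h7 : ∀ z ∈ s, IsIntegral R (algebraMap R K r * z) := fun z hz => by
    have := isIntegral_trans (R := R) _ (hy z hz)
    rwa [Algebra.smul_def, show algebraMap D K y = algebraMap R K r from hr.symm] at this
  refine ⟨r, ?_, ?_⟩
  · rw [hr]
    exact fun h => hy0 (Subtype.ext h)
  · intro R' _ _ _ _ _
    have h5 : Algebra.FiniteType R' K := .of_restrictScalars_finiteType R R' K
    have h6 : ∀ z ∈ (s : Set K), IsIntegral R' z := by
      intro z hz
      have h8 : IsIntegral R' (algebraMap R K r * z) := (h7 z hz).tower_top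
      obtain ⟨v, hv⟩ := (IsLocalization.Away.algebraMap_isUnit (S := R') r).exists_right_inv
      have h9 : z = v • (algebraMap R K r * z) := by
        rw [Algebra.smul_def, ← mul_assoc, IsScalarTower.algebraMap_apply R R' K, ← map_mul,
          mul_comm v, hv, map_one, one_mul]
      rw [h9]
      exact h8.smul v
    have h12 : Algebra.IsIntegral R' K := isIntegral_of_adjoin (R := R) _ hs h6
    exact Algebra.IsIntegral.finite

/-- The image of a closed point under an open immersion is closed in the range. -/
theorem isClosed_opensRange {Y S : Scheme.{u}} (j : Y ⟶ S) [IsOpenImmersion j] (y : Y)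
    (hy : IsClosed ({y} : Set Y)) :
    IsClosed ({⟨j y, ⟨y, rfl⟩⟩} : Set ↥j.opensRange) := by
  let e : Y ≃ₜ Set.range j := j.isOpenEmbedding.isEmbedding.toHomeomorph
  have h1 := e.isClosedMap _ hy
  rw [Set.image_singleton] at h1
  exact h1

theorem locallyOfFiniteType_of_isOpenImmersion {Y S : Scheme.{u}} (j : Y ⟶ S) [IsOpenImmersion j]
    (y : Y) (h : IsClosed ({y} : Set Y)) : LocallyOfFiniteType (S.fromSpecResidueField (j y)) := by
  have h1 : IsClosedImmersion (Y.fromSpecResidueField y) :=
    isClosed_singleton_iff_isClosedImmersion.mp h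
  have h2 := Scheme.Hom.SpecMap_residueFieldMap_fromSpecResidueField j y
  have h3 : S.fromSpecResidueField (j y) =
      inv (Spec.map (j.residueFieldMap y)) ≫ Y.fromSpecResidueField y ≫ j := by
    rw [IsIso.eq_inv_comp]
    exact h2
  rw [h3]
  infer_instance

/-- A point closed in an open subscheme is a finite type point. -/
theorem locallyOfFiniteType_of_isClosed (S : Scheme.{u}) (s : S) (U : S.Opens) (hs : s ∈ U)
    (h : IsClosed ({⟨s, hs⟩} : Set ↥U)) : LocallyOfFiniteType (S.fromSpecResidueField s) :=
  locallyOfFiniteType_of_isOpenImmersion U.ι ⟨s, hs⟩ h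

/-- If `Spec k ⟶ S` is locally of finite type then its image point is closed in an affine open. -/
theorem exists_isClosed_of_locallyOfFiniteType (S : Scheme.{u}) (k : CommRingCat.{u})
    (hk : IsField k) (f : Spec k ⟶ S) [LocallyOfFiniteType f] (z : Spec k) :
    ∃ U : S.Opens, IsAffineOpen U ∧ ∃ hu : f z ∈ U, IsClosed ({⟨f z, hu⟩} : Set ↥U) := by
  obtain ⟨_, ⟨U, hU, rfl⟩, hzU, -⟩ :=
    S.isBasis_affineOpens.exists_subset_of_mem_open (Set.mem_univ (f z)) isOpen_univ
  have hoi : IsOpenImmersion hU.fromSpec := hU.isOpenImmersion_fromSpec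
  let := hk.toField
  have hsub : Subsingleton (Spec k) := inferInstanceAs (Subsingleton (PrimeSpectrum k))
  let g : Spec k ⟶ Spec Γ(S, U) := IsOpenImmersion.lift hU.fromSpec f (by
    rw [hU.range_fromSpec]
    rintro _ ⟨w, rfl⟩
    rw [Subsingleton.elim w z]
    exact hzU)
  have hg : g ≫ hU.fromSpec = f := IsOpenImmersion.lift_fac _ _ _
  obtain ⟨φ, hφ⟩ := Spec.map_surjective g
  have hgt : LocallyOfFiniteType g := by
    have : LocallyOfFiniteType (g ≫ hU.fromSpec) := by rw [hg]; infer_instance
    exact locallyOfFiniteType_of_comp g hU.fromSpec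
  rw [← hφ, HasRingHomProperty.Spec_iff (P := @LocallyOfFiniteType)] at hgt
  algebraize [φ.hom]
  obtain ⟨r, hr, hfin⟩ := exists_away_finite Γ(S, U) k
  let R' := Localization.Away r
  let ψ : R' →+* k := IsLocalization.Away.lift r (g := φ.hom) (isUnit_iff_ne_zero.mpr hr)
  let : Algebra R' k := ψ.toAlgebra
  have : IsScalarTower Γ(S, U) R' k := .of_algebraMap_eq fun x =>
    (IsLocalization.Away.lift_eq r (isUnit_iff_ne_zero.mpr hr) x).symm
  have hfin' : Module.Finite R' k := hfin R'
  let j : Spec (CommRingCat.of R') ⟶ S :=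
    Spec.map (CommRingCat.ofHom (algebraMap Γ(S, U) R')) ≫ hU.fromSpec
  have hj1 : IsOpenImmersion (Spec.map (CommRingCat.ofHom (algebraMap Γ(S, U) R'))) :=
    AlgebraicGeometry.Scheme.isOpenImmersion_SpecMap_localizationAway (R := Γ(S, U)) r
  have hj : IsOpenImmersion j := inferInstance
  let t : Spec k ⟶ Spec (CommRingCat.of R') := Spec.map (CommRingCat.ofHom ψ)
  have ht : t ≫ j = f := by
    have : CommRingCat.ofHom (algebraMap Γ(S, U) R') ≫ CommRingCat.ofHom ψ = φ := by
      ext x
      exact IsLocalization.Away.lift_eq r (isUnit_iff_ne_zero.mpr hr) x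
    change Spec.map _ ≫ Spec.map _ ≫ _ = f
    rw [← Category.assoc, ← Spec.map_comp, this, hφ, hg]
  have htf : IsFinite t := by
    rw [IsFinite.SpecMap_iff]
    exact hfin'
  have hcl : IsClosed ({t z} : Set (Spec (CommRingCat.of R'))) := by
    rw [← Set.image_singleton]
    exact t.isClosedMap _ (isClosed_discrete _)
  have h5 := isClosed_opensRange j (t z) hcl
  have h6 : j (t z) = f z := by rw [← Scheme.Hom.comp_apply, ht]
  refine ⟨j.opensRange, isAffineOpen_opensRange j, ⟨t z, h6⟩, ?_⟩
  have h7 : (⟨f z, ⟨t z, h6⟩⟩ : ↥j.opensRange) = ⟨j (t z), ⟨t z, rfl⟩⟩ := Subtype.ext h6.symm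
  rw [h7]
  exact h5

end K585.FtPtsBasic
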