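import Mathlib.RingTheory.FiniteType
import Mathlib.RingTheory.Artinian.Ring
import Mathlib.RingTheory.HopkinsLevitzki
import Mathlib.RingTheory.Ideal.Operations
import Mathlib.RingTheory.FiniteType
import Mathlib.RingTheory.LocalRing.ResidueField.Basic

/-!
# Finite type along a nilpotent finitely generated ideal
-/

set_option autoImplicit false

universe u

namespace K585.FtPtsArtin

theorem le_of_le_sup_smul {R M : Type*} [CommRing R] [AddCommGroup M] [Module R M] (I : Ideal R)
    (hI : IsNilpotent I) (N P : Submodule R M) (h : P ≤ N ⊔ I • P) : P ≤ N := by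
  have key : ∀ n : ℕ, P ≤ N ⊔ I ^ n • P := by
    intro n
    induction n with
    | zero => simp
    | succ n ih =>
      refine h.trans (sup_le le_sup_left ?_)
      calc I • P ≤ I • (N ⊔ I ^ n • P) := Submodule.smul_mono le_rfl ih
        _ = I • N ⊔ I ^ (n + 1) • P := by
            rw [Submodule.smul_sup, ← Submodule.mul_smul, ← pow_succ']
        _ ≤ N ⊔ I ^ (n + 1) • P := sup_le_sup Submodule.smul_le_right le_rfl
  obtain ⟨n, hn⟩ := hI
  have := key n
  rw [hn] at this
  simpa using this

/-- If `I` is a finitely generated nilpotent ideal of `A` and `A ⧸ I` (rather: a surjective image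
with kernel `I`) is of finite type over `R`, then so is `A`. -/
theorem finiteType_of_surjective_of_isNilpotent {R A C : Type*} [CommRing R] [CommRing A]
    [CommRing C] [Algebra R A] [Algebra R C] (c : A →ₐ[R] C) (hc : Function.Surjective c)
    (hfg : (RingHom.ker c).FG) (hn : IsNilpotent (RingHom.ker c)) (hC : Algebra.FiniteType R C) :
    Algebra.FiniteType R A := by
  classical
  obtain ⟨s, hs⟩ := hC.out
  obtain ⟨y, hy⟩ := hfg
  choose g hg using hc
  let B := Algebra.adjoin R ((s.image g ∪ y : Finset A) : Set A)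
  refine ⟨⟨s.image g ∪ y, ?_⟩⟩
  change B = ⊤
  have hyB : ∀ a ∈ y, a ∈ B := fun a ha => Algebra.subset_adjoin (by simp [ha])
  have hgB : ∀ a ∈ s, g a ∈ B := fun a ha => Algebra.subset_adjoin (by
    simp only [Finset.coe_union, Finset.coe_image, Set.mem_union, Set.mem_image]
    exact Or.inl ⟨a, ha, rfl⟩)
  let J : Ideal B := Ideal.span {b : B | (b : A) ∈ y}
  have hJmap : J.map (algebraMap B A) = RingHom.ker c := by
    rw [Ideal.map_span, ← hy]
    congr 1
    ext a
    simp only [Set.mem_image, Set.mem_ofPred_eq, SetLike.mem_coe]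
    constructor
    · rintro ⟨b, hb, rfl⟩
      exact hb
    · intro ha
      exact ⟨⟨a, hyB a ha⟩, ha, rfl⟩
  have hJn : IsNilpotent J := by
    obtain ⟨n, hn⟩ := hn
    refine ⟨n, ?_⟩
    rw [← hJmap, ← Ideal.map_pow] at hn
    have h1 : ∀ b ∈ J ^ n, b = 0 := by
      intro b hb
      have := Ideal.mem_map_of_mem (algebraMap B A) hb
      rw [hn] at this
      exact Subtype.ext this
    exact (Submodule.eq_bot_iff _).mpr h1
  have h2 : (⊤ : Submodule B A) ≤ LinearMap.range (Algebra.linearMap B A) := by
    refine le_of_le_sup_smul J hJn _ _ ?_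
    intro a _
    have h3 : ∃ b : B, c (b : A) = c a := by
      have h4 : c a ∈ B.map c := by
        have h5 : (B.map c) = ⊤ := by
          rw [eq_top_iff, ← hs]
          refine Algebra.adjoin_le ?_
          intro z hz
          exact ⟨g z, hgB z hz, hg z⟩
        rw [h5]; trivial
      obtain ⟨b, hb, hba⟩ := h4
      exact ⟨⟨b, hb⟩, hba⟩
    obtain ⟨b, hb⟩ := h3
    have h6 : a - b ∈ J • (⊤ : Submodule B A) := by
      rw [Ideal.smul_top_eq_map, hJmap, Submodule.restrictScalars_mem, RingHom.mem_ker, map_sub, hb,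
        sub_self]
    rw [← sub_add_cancel a b, add_comm]
    exact Submodule.add_mem_sup ⟨b, rfl⟩ h6
  rw [eq_top_iff]
  intro a _
  obtain ⟨b, hb⟩ := h2 (show a ∈ ⊤ from trivial)
  rw [← hb]
  exact b.2

theorem finiteType_of_residue {R A : Type*} [CommRing R] [CommRing A] [IsArtinianRing A]
    [IsLocalRing A] (φ : R →+* A) (h : ((IsLocalRing.residue A).comp φ).FiniteType) :
    φ.FiniteType := by
  let := φ.toAlgebra
  let : Algebra R (IsLocalRing.ResidueField A) := ((IsLocalRing.residue A).comp φ).toAlgebra
  let c : A →ₐ[R] IsLocalRing.ResidueField A :=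
    { IsLocalRing.residue A with commutes' := fun r => rfl }
  have hker : RingHom.ker c = IsLocalRing.maximalIdeal A := IsLocalRing.ker_residue (R := A)
  refine finiteType_of_surjective_of_isNilpotent (R := R) (A := A)
    (C := IsLocalRing.ResidueField A) c IsLocalRing.residue_surjective ?_ ?_ h
  · exact (isNoetherianRing_iff_ideal_fg A).mp inferInstance _
  · rw [hker]
    exact IsArtinianRing.isNilpotent_jacobson_bot (R := A) |> (IsLocalRing.jacobson_eq_maximalIdeal
      (⊥ : Ideal A) bot_ne_top ▸ ·)

end K585.FtPtsArtin
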